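import Groth.Agent.Ega4late.H535.PicPrincipal
import Groth.Agent.Divis.StalkPrime
import Mathlib.RingTheory.Ideal.UFD

/-!
# Prime cycles of codimension one cut out by one global section
-/

set_option autoImplicit false
universe u
open CategoryTheory CategoryTheory.Limits AlgebraicGeometry TopologicalSpace

namespace Groth.Agent.Ega4late.H535.CutOut

open Groth.Agent.CurvesA.UfdFrac Groth.Agent.CurvesA.UfdStalk Groth.Agent.Ega4dA.GenSec
open Groth.Agent.CurvesA.UfdExtend Groth.Agent.Ega4dB.CDivNormal Groth.Agent.Ega4dB.CDivAffine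
open Groth.Agent.Ega4dB.CDivUFD Groth.Agent.Ega4late.H535.PicPrincipal
open Groth.Agent.CycB.LocQuot

/-- Every point of codimension one is cut out by one global section. -/
def IsCutOut (X : Scheme.{u}) : Prop :=
  ∀ ζ : ↥X, Order.coheight ζ = 1 → ∃ g : Γ(X, ⊤),
    (∀ (x : ↥X) (h : ζ ⤳ x),
      (IsLocalRing.maximalIdeal ↑(X.presheaf.stalk ζ)).comap (X.presheaf.stalkSpecializes h).hom =
        Ideal.span {X.presheaf.germ ⊤ x trivial g}) ∧
    ∀ x : ↥X, ¬ ζ ⤳ x → IsUnit (X.presheaf.germ ⊤ x trivial g)

variable {X : Scheme.{u}} [IsIntegral X] [IsLocallyNoetherian X]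

theorem ufd_of_isCutOut (h1 : IsCutOut X) (x : X) : UniqueFactorizationMonoid (X.presheaf.stalk x) := by
  apply UniqueFactorizationMonoid.of_forall_isPrincipal_of_height_eq_one
  intro P hP hP1
  let q : PrimeSpectrum (X.presheaf.stalk x) := ⟨P, hP⟩
  have hζ : Order.coheight (ptOf q) = 1 := by
    have h2 := Groth.Agent.Divis.StalkPrime.height_eq q
    rw [AlgebraicGeometry.ringKrullDim_stalk_eq_coheight] at h2
    change _ = ((P.height : ℕ∞) : WithBot ℕ∞) at h2
    rw [hP1] at h2
    exact_mod_cast h2
  obtain ⟨g, hg, -⟩ := h1 (ptOf q) hζ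
  have h2 := hg x (ptOf_specializes q)
  have h3 : (IsLocalRing.maximalIdeal (X.presheaf.stalk (ptOf q))).comap
      (X.presheaf.stalkSpecializes (ptOf_specializes q)).hom = P :=
    congrArg PrimeSpectrum.asIdeal (primeOf_ptOf q)
  rw [h3] at h2
  exact ⟨⟨_, h2⟩⟩

omit [IsLocallyNoetherian X] in
theorem algebraMap_germ (x : X) (g : Γ(X, ⊤)) :
    algebraMap (X.presheaf.stalk x) X.functionField (X.presheaf.germ ⊤ x trivial g) =
      X.presheaf.germ ⊤ (genericPoint X) trivial g :=
  sp_germ (W := ⊤) (genericPoint_specializes x) trivial g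

omit [IsLocallyNoetherian X] in
theorem algebraMap_injective' (x : X) :
    Function.Injective (algebraMap (X.presheaf.stalk x) X.functionField) :=
  IsFractionRing.injective (X.presheaf.stalk x) X.functionField

theorem ord_uniformizer (x : X) [IsDiscreteValuationRing (X.presheaf.stalk x)] (π : X.presheaf.stalk x)
    (hπ : IsLocalRing.maximalIdeal (X.presheaf.stalk x) = Ideal.span {π}) :
    Scheme.ord (algebraMap (X.presheaf.stalk x) X.functionField π) x = 1 := by
  have hx : Order.coheight x = 1 := coheight_eq_one x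
  have : Ring.KrullDimLE 1 (X.presheaf.stalk x) := krullDimLE_of_coheight_le hx.le
  have hirr : Irreducible π := (IsDiscreteValuationRing.irreducible_iff_uniformizer π).mpr hπ
  have h0 : algebraMap (X.presheaf.stalk x) X.functionField π ≠ 0 := by
    intro h
    exact hirr.ne_zero (algebraMap_injective' x (by rw [h, map_zero]))
  rw [Scheme.ord_eq_iff hx h0]
  exact Ring.ordFrac_irreducible (K := X.functionField) hirr

theorem isPrincipalCodimOne_of_isCutOut (h1 : IsCutOut X) : IsPrincipalCodimOne X := by
  intro ζ hζ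
  have hU := ufd_of_isCutOut h1
  obtain ⟨g, hg, hg'⟩ := h1 ζ hζ
  have hdvr : IsDiscreteValuationRing (X.presheaf.stalk ζ) :=
    isDiscreteValuationRing_of_coheight ζ inferInstance hζ
  have hmax : IsLocalRing.maximalIdeal (X.presheaf.stalk ζ) = Ideal.span {X.presheaf.germ ⊤ ζ trivial g} := by
    have h2 := hg ζ specializes_rfl
    rw [TopCat.Presheaf.stalkSpecializes_refl] at h2
    rw [← h2]
    exact (Ideal.comap_id _).symm
  have h3 := ord_uniformizer ζ _ hmax
  refine ⟨X.presheaf.germ ⊤ (genericPoint X) trivial g, ?_, ?_, ?_⟩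
  · intro h0
    rw [algebraMap_germ, h0, Scheme.ord_zero] at h3
    change (0 : ℤ) = 1 at h3
    exact absurd h3 (by decide)
  · rw [algebraMap_germ] at h3
    exact h3
  · intro x hx hx1
    have hn : ¬ ζ ⤳ x := fun h => hx (eq_of_specializes_of_coheight ζ x h hζ hx1).symm
    obtain ⟨u, hu⟩ := hg' x hn
    rw [← algebraMap_germ x g, ← hu]
    exact ord_algebraMap_unit x u

/-- A nonzero element of a local ring of codimension one is a unit iff its order vanishes. -/
theorem isUnit_iff_ord_eq_zero (z : X) [IsDiscreteValuationRing (X.presheaf.stalk z)] (a : X.presheaf.stalk z)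
    (ha : a ≠ 0) : IsUnit a ↔ Scheme.ord (algebraMap (X.presheaf.stalk z) X.functionField a) z = 0 := by
  have hx : Order.coheight z = 1 := coheight_eq_one z
  have h0 : algebraMap (X.presheaf.stalk z) X.functionField a ≠ 0 := by
    intro h
    exact ha (algebraMap_injective' z (by rw [h, map_zero]))
  rw [Ring.isUnit_iff_ordFrac_one_of_isDiscreteValuationRing (K := X.functionField),
    Scheme.ord_eq_iff hx h0]
  rfl

omit [IsLocallyNoetherian X] in
theorem algebraMap_stalkSpecializes {x y : X} (h : y ⤳ x) (a : X.presheaf.stalk x) :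
    algebraMap (X.presheaf.stalk y) X.functionField ((X.presheaf.stalkSpecializes h).hom a) =
      algebraMap (X.presheaf.stalk x) X.functionField a :=
  sp_sp (genericPoint_specializes y) h a

theorem isCutOut_of_isPrincipalCodimOne (hX : ∀ x : X, IsIntegrallyClosed (X.presheaf.stalk x))
    (hP : IsPrincipalCodimOne X) : IsCutOut X := by
  intro ζ hζ
  obtain ⟨f, hf0, hf1, hf⟩ := hP ζ hζ
  have hdvr : ∀ z : X, Order.coheight z = 1 → IsDiscreteValuationRing (X.presheaf.stalk z) :=
    fun z hz => isDiscreteValuationRing_of_coheight z (hX z) hz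
  have hG := genPt_top X
  obtain ⟨g, hg⟩ := exists_section_of_regPt hG (W := ⊤) le_top trivial f (fun y _ =>
    regPt_of_ord_nonneg hX y f hf0 (fun z _ hz1 => by
      by_cases h : z = ζ
      · rw [h, hf1]; decide
      · rw [hf z h hz1]))
  have hgf : ∀ x, algebraMap (X.presheaf.stalk x) X.functionField (X.presheaf.germ ⊤ x trivial g) = f := by
    intro x
    rw [algebraMap_germ]
    exact hg
  refine ⟨g, ?_, ?_⟩
  · intro x h
    apply le_antisymm
    · intro a ha
      rw [Ideal.mem_comap, IsLocalRing.mem_maximalIdeal, mem_nonunits_iff] at ha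
      by_cases ha0 : a = 0
      · rw [ha0]; exact zero_mem _
      have haK : algebraMap (X.presheaf.stalk x) X.functionField a ≠ 0 := fun h0 =>
        ha0 (algebraMap_injective' x (by rw [h0, map_zero]))
      have hne : algebraMap (X.presheaf.stalk x) X.functionField a * f⁻¹ ≠ 0 :=
        mul_ne_zero haK (inv_ne_zero hf0)
      obtain ⟨c, hc⟩ := regPt_of_ord_nonneg hX x _ hne (fun z hz hz1 => by
        rw [Scheme.ord_mul haK (inv_ne_zero hf0), ord_inv _ _ hf0]
        have h2 : 0 ≤ Scheme.ord (algebraMap (X.presheaf.stalk x) X.functionField a) z := by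
          apply ord_nonneg_of_mem_range z _ haK
          exact range_mono hz ⟨a, rfl⟩
        by_cases hzζ : z = ζ
        · subst hzζ
          rw [hf1]
          have := hdvr z hz1
          have h4 : (X.presheaf.stalkSpecializes h).hom a ≠ 0 := by
            intro h0
            apply haK
            rw [← algebraMap_stalkSpecializes h, h0, map_zero]
          have h3 := (isUnit_iff_ord_eq_zero z _ h4).not.mp ha
          rw [algebraMap_stalkSpecializes] at h3
          omega
        · rw [hf z hzζ hz1]
          omega)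
      rw [Ideal.mem_span_singleton']
      refine ⟨c, algebraMap_injective' x ?_⟩
      rw [map_mul, hgf]
      have hc' : algebraMap (X.presheaf.stalk x) X.functionField c =
        algebraMap (X.presheaf.stalk x) X.functionField a * f⁻¹ := hc
      rw [hc', mul_assoc, inv_mul_cancel₀ hf0, mul_one]
    · rw [Ideal.span_le, Set.singleton_subset_iff]
      change _ ∈ IsLocalRing.maximalIdeal _
      rw [IsLocalRing.mem_maximalIdeal, mem_nonunits_iff]
      have := hdvr ζ hζ
      have h5 : algebraMap (X.presheaf.stalk ζ) X.functionField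
          ((X.presheaf.stalkSpecializes h).hom (X.presheaf.germ ⊤ x trivial g)) = f := by
        rw [algebraMap_stalkSpecializes, hgf]
      have h4 : (X.presheaf.stalkSpecializes h).hom (X.presheaf.germ ⊤ x trivial g) ≠ 0 := by
        intro h0
        apply hf0
        rw [← h5, h0, map_zero]
      rw [isUnit_iff_ord_eq_zero ζ _ h4, h5, hf1]
      decide
  · intro x hx
    obtain ⟨c, hc⟩ := regPt_of_ord_nonneg hX x f⁻¹ (inv_ne_zero hf0) (fun z hz hz1 => by
      rw [ord_inv _ _ hf0, hf z (fun h => hx (h ▸ hz)) hz1]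
      decide)
    have hc' : algebraMap (X.presheaf.stalk x) X.functionField c = f⁻¹ := hc
    refine IsUnit.of_mul_eq_one c (algebraMap_injective' x ?_)
    rw [map_mul, hgf, hc', map_one, mul_inv_cancel₀ hf0]

end Groth.Agent.Ega4late.H535.CutOut
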