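import Groth.Agent.Ega4late.H535.CutOut

/-!
# The ideal sheaf of a prime cycle of codimension one on a normal scheme

`vanSub X ζ` is the sheaf of functions vanishing at `ζ`.  On a normal locally Noetherian integral scheme it is
invertible on an open subset `locPrincipal X ζ` containing all points of codimension one; a generator of it over
an open set containing all points of codimension one gives a rational function with divisor `ζ`.
-/

set_option autoImplicit false
universe u
open CategoryTheory CategoryTheory.Limits AlgebraicGeometry TopologicalSpace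

namespace Groth.Agent.Ega4late.H535.IdealSheaf

open Groth.Agent.CurvesA.UfdFrac Groth.Agent.CurvesA.UfdStalk Groth.Agent.Ega4dA.GenSec
open Groth.Agent.CurvesA.UfdExtend Groth.Agent.Ega4dB.CDivNormal Groth.Agent.Ega4dB.CDivAffine
open Groth.Agent.Ega4dB.CDivUFD Groth.Agent.Ega4late.H535.PicPrincipal
open Groth.Agent.CycB.LocQuot Groth.Agent.Ega4late.H535.CutOut

/-- A section of the structure module as a function. -/
def toO {X : Scheme.{u}} {W : X.Opens} (f : Γ(Coh.structureModule X, W)) : Γ(X, W) := f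

theorem toO_smul {X : Scheme.{u}} {W : X.Opens} (r : Γ(X, W)) (f : Γ(Coh.structureModule X, W)) :
    toO (r • f) = r * toO f := rfl

theorem toO_res {X : Scheme.{u}} {W V : X.Opens} (h : V ≤ W) (f : Γ(Coh.structureModule X, W)) :
    toO (res (Coh.structureModule X) h f) = resO X h (toO f) := rfl

theorem toO_add {X : Scheme.{u}} {W : X.Opens} (f g : Γ(Coh.structureModule X, W)) :
    toO (f + g) = toO f + toO g := rfl

theorem toO_zero {X : Scheme.{u}} {W : X.Opens} : toO (0 : Γ(Coh.structureModule X, W)) = 0 := rfl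

/-- The sheaf of functions vanishing at `ζ`. -/
noncomputable def vanSub (X : Scheme.{u}) (ζ : X) : Ega1.SubSheaf.Sub (Coh.structureModule X) where
  obj W :=
    { carrier := {f | ∀ hζ : ζ ∈ W, X.presheaf.germ W ζ hζ (toO f) ∈ IsLocalRing.maximalIdeal _}
      add_mem' := by
        intro s t hs ht hζ
        rw [toO_add, map_add]
        exact add_mem (hs hζ) (ht hζ)
      zero_mem' := by
        intro hζ
        rw [toO_zero, map_zero]
        exact zero_mem _
      smul_mem' := by
        intro r t ht hζ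
        rw [toO_smul, map_mul]
        exact Ideal.mul_mem_left _ _ (ht hζ) }
  map_mem := by
    intro W W' hW t ht hζ
    have h1 := ht (hW hζ)
    rw [← germ_resO hW hζ] at h1
    exact h1
  local_mem := by
    intro W t ht hζ
    obtain ⟨W', hW', hζ', h'⟩ := ht ζ hζ
    have h1 := h' hζ'
    change X.presheaf.germ W' ζ hζ' (resO X hW' (toO t)) ∈ _ at h1
    rw [germ_resO hW' hζ'] at h1
    exact h1

theorem mem_vanSub {X : Scheme.{u}} {ζ : X} {W : X.Opens} {f : Γ(Coh.structureModule X, W)} :
    f ∈ (vanSub X ζ).obj W ↔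
      ∀ hζ : ζ ∈ W, X.presheaf.germ W ζ hζ (toO f) ∈ IsLocalRing.maximalIdeal _ := Iff.rfl

variable {X : Scheme.{u}} [IsIntegral X] [IsLocallyNoetherian X]

/-- `g` is an equation of the prime cycle of `ζ` on `V`. -/
def IsEq (ζ : X) (V : X.Opens) (g : X.functionField) : Prop :=
  g ≠ 0 ∧ ∀ z : X, z ∈ V → Order.coheight z = 1 →
    (z = ζ → Scheme.ord g z = 1) ∧ (z ≠ ζ → Scheme.ord g z = 0)

/-- The open subset where the prime cycle of `ζ` is principal. -/
def locPrincipal (ζ : X) : X.Opens where
  carrier := {x | ∃ (V : X.Opens) (g : X.functionField), x ∈ V ∧ IsEq ζ V g}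
  is_open' := by
    rw [isOpen_iff_forall_mem_open]
    rintro x ⟨V, g, hx, hg⟩
    exact ⟨V, fun y hy => ⟨V, g, hy, hg⟩, V.2, hx⟩

theorem mem_locPrincipal {ζ x : X} :
    x ∈ locPrincipal ζ ↔ ∃ (V : X.Opens) (g : X.functionField), x ∈ V ∧ IsEq ζ V g := Iff.rfl

theorem mem_locPrincipal_of_ufd (hX : ∀ x : X, IsIntegrallyClosed (X.presheaf.stalk x)) {ζ : X}
    (hζ : Order.coheight ζ = 1) (x : X) (hx : UniqueFactorizationMonoid (X.presheaf.stalk x)) :
    x ∈ locPrincipal ζ := by
  obtain ⟨V, g, hxV, hg⟩ := exists_local_prime hX ζ hζ x hx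
  exact ⟨V, g, hxV, g.ne_zero, hg⟩

theorem mem_locPrincipal_of_coheight (hX : ∀ x : X, IsIntegrallyClosed (X.presheaf.stalk x)) {ζ : X}
    (hζ : Order.coheight ζ = 1) (x : X) (hx : Order.coheight x = 1) : x ∈ locPrincipal ζ := by
  have := isDiscreteValuationRing_of_coheight x (hX x) hx
  exact mem_locPrincipal_of_ufd hX hζ x inferInstance

omit [IsLocallyNoetherian X] in
theorem germ_eq_algebraMap {V : X.Opens} (hη : genericPoint X ∈ V) {z : X} (hz : z ∈ V) (s : Γ(X, V)) :
    X.presheaf.germ V (genericPoint X) hη s =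
      algebraMap (X.presheaf.stalk z) X.functionField (X.presheaf.germ V z hz s) :=
  (sp_germ (genericPoint_specializes z) hz s).symm

/-- A local equation gives a generator of the ideal sheaf. -/
theorem exists_isGen (hX : ∀ x : X, IsIntegrallyClosed (X.presheaf.stalk x)) {ζ : X}
    (hζ : Order.coheight ζ = 1) {V : X.Opens} {g : X.functionField} (hg : IsEq ζ V g)
    (hη : genericPoint X ∈ V) :
    ∃ (s : Γ(Coh.structureModule X, V)) (hs : s ∈ (vanSub X ζ).obj V),
      X.presheaf.germ V (genericPoint X) hη (toO s) = g ∧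
      IsGen (vanSub X ζ).toModules V ((vanSub X ζ).sec s hs) := by
  have hG := genPt_top X
  have hdvr : ∀ z : X, Order.coheight z = 1 → IsDiscreteValuationRing (X.presheaf.stalk z) :=
    fun z hz => isDiscreteValuationRing_of_coheight z (hX z) hz
  obtain ⟨g0, hg⟩ := hg
  obtain ⟨s, hs⟩ := exists_section_of_regPt hG (W := V) le_top hη g (fun y hy =>
    regPt_of_ord_nonneg hX y g g0 (fun z hz hz1 => by
      have hzV : z ∈ V := hz.mem_open V.2 hy
      by_cases h : z = ζ
      · rw [(hg z hzV hz1).1 h]; decide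
      · rw [(hg z hzV hz1).2 h]))
  have hmem : (show Γ(Coh.structureModule X, V) from s) ∈ (vanSub X ζ).obj V := by
    rw [mem_vanSub]
    intro hζV
    have h1 : algebraMap (X.presheaf.stalk ζ) X.functionField (X.presheaf.germ V ζ hζV s) = g := by
      rw [← germ_eq_algebraMap hη hζV, hs]
    have h2 : X.presheaf.germ V ζ hζV s ≠ 0 := by
      intro h0
      apply g0
      rw [← h1, h0, map_zero]
    have := hdvr ζ hζ
    change X.presheaf.germ V ζ hζV s ∈ _
    rw [IsLocalRing.mem_maximalIdeal, mem_nonunits_iff, isUnit_iff_ord_eq_zero ζ _ h2, h1,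
      (hg ζ hζV hζ).1 rfl]
    decide
  refine ⟨_, hmem, hs, isGen_sec (vanSub X ζ) hmem ?_ ?_⟩
  · intro W hW r r' h
    by_cases hne : (W : Set X).Nonempty
    · have hηW : genericPoint X ∈ W := by
        obtain ⟨y, hy⟩ := hne
        exact hG.mem_of_mem le_top hy
      apply hG.inj W le_top hηW
      have h1 := congrArg (fun t => X.presheaf.germ W (genericPoint X) hηW (toO t)) h
      simp only [toO_smul, map_mul] at h1
      have h2 : X.presheaf.germ W (genericPoint X) hηW (resO X hW s) = g := by
        rw [germ_resO]; exact hs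
      have h3 : X.presheaf.germ W (genericPoint X) hηW (resO X hW s) ≠ 0 := by
        rw [h2]; exact g0
      exact mul_right_cancel₀ (M₀ := X.functionField) h3 h1
    · exact subsingletonO_of_notMem (fun y hy => hne ⟨y, hy⟩) r r'
  · intro W hW t ht
    by_cases hne : (W : Set X).Nonempty
    · have hηW : genericPoint X ∈ W := by
        obtain ⟨y, hy⟩ := hne
        exact hG.mem_of_mem le_top hy
      by_cases ht0 : toO t = 0
      · refine ⟨0, ?_⟩
        rw [zero_smul]
        exact ht0.symm
      have htK : X.presheaf.germ W (genericPoint X) hηW (toO t) ≠ 0 := by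
        intro h0
        exact ht0 (hG.inj W le_top hηW (by rw [h0, map_zero]))
      let τ : X.functionField := X.presheaf.germ W (genericPoint X) hηW (toO t)
      have hτ : τ ≠ 0 := htK
      obtain ⟨r, hr⟩ := exists_section_of_regPt hG (W := W) le_top hηW (τ * g⁻¹) (fun y hy =>
        regPt_of_ord_nonneg hX y _ (mul_ne_zero hτ (inv_ne_zero g0)) (fun z hz hz1 => by
          have hzW : z ∈ W := hz.mem_open W.2 hy
          rw [Scheme.ord_mul hτ (inv_ne_zero g0), ord_inv _ _ g0]
          have e1 : τ = algebraMap (X.presheaf.stalk z) X.functionField (X.presheaf.germ W z hzW (toO t)) :=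
            germ_eq_algebraMap hηW hzW _
          have h2 : 0 ≤ Scheme.ord τ z := ord_nonneg_of_mem_range z _ hτ ⟨_, e1.symm⟩
          by_cases h : z = ζ
          · rw [(hg z (hW hzW) hz1).1 h]
            subst h
            have := hdvr z hz1
            have h3 := mem_vanSub.mp ht hzW
            rw [IsLocalRing.mem_maximalIdeal, mem_nonunits_iff, isUnit_iff_ord_eq_zero z _ (by
              intro h0
              apply hτ
              rw [e1, h0, map_zero]), ← e1] at h3
            omega
          · rw [(hg z (hW hzW) hz1).2 h]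
            omega))
      refine ⟨r, ?_⟩
      apply hG.inj W le_top hηW
      change X.presheaf.germ W (genericPoint X) hηW (r * resO X hW s) = τ
      rw [map_mul, hr, germ_resO]
      have h5 : X.presheaf.germ V (genericPoint X) (hW hηW) s = g := hs
      rw [h5]
      change τ * g⁻¹ * g = τ
      rw [mul_assoc, inv_mul_cancel₀ g0, mul_one]
    · exact ⟨0, subsingletonO_of_notMem (fun y hy => hne ⟨y, hy⟩) _ _⟩

/-- The ideal sheaf is locally free of rank one over the open where the cycle is principal. -/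
theorem locGen_vanSub (hX : ∀ x : X, IsIntegrallyClosed (X.presheaf.stalk x)) {ζ : X}
    (hζ : Order.coheight ζ = 1) : LocGen (vanSub X ζ).toModules (locPrincipal ζ) := by
  rintro x ⟨V, g, hxV, hg⟩
  obtain ⟨s, hs, -, hgen⟩ := exists_isGen hX hζ hg ((genPt_top X).mem_of_mem le_top hxV)
  exact ⟨V, hxV, fun y hy => ⟨V, g, hy, hg⟩, _, hgen⟩

/-- A generator of the ideal sheaf over an open containing all points of codimension one is a rational function
with divisor `ζ`. -/
theorem exists_of_isGen (hX : ∀ x : X, IsIntegrallyClosed (X.presheaf.stalk x)) {ζ : X}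
    (hζ : Order.coheight ζ = 1) {O : X.Opens} (hO : ∀ z : X, Order.coheight z = 1 → z ∈ O)
    (s : Γ((vanSub X ζ).toModules, O)) (hs : IsGen (vanSub X ζ).toModules O s) :
    ∃ f : X.functionField, f ≠ 0 ∧ Scheme.ord f ζ = 1 ∧
      ∀ x : X, x ≠ ζ → Order.coheight x = 1 → Scheme.ord f x = 0 := by
  have hG := genPt_top X
  have hηO : genericPoint X ∈ O := hG.mem_of_mem le_top (hO ζ hζ)
  let f : X.functionField := X.presheaf.germ O (genericPoint X) hηO (toO ((vanSub X ζ).ι.app O s))
  have key : ∀ z : X, Order.coheight z = 1 → f ≠ 0 ∧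
      (z = ζ → Scheme.ord f z = 1) ∧ (z ≠ ζ → Scheme.ord f z = 0) := by
    intro z hz
    obtain ⟨V, g, hzV, hg⟩ := mem_locPrincipal_of_coheight hX hζ z hz
    have hηV : genericPoint X ∈ V := hG.mem_of_mem le_top hzV
    obtain ⟨t, ht, htg, hgen⟩ := exists_isGen hX hζ hg hηV
    obtain ⟨a, ha⟩ := (hgen.mono (inf_le_left : V ⊓ O ≤ V)).exists_unit
      (hs.mono (inf_le_right : V ⊓ O ≤ O))
    have hzVO : z ∈ V ⊓ O := ⟨hzV, hO z hz⟩
    have hηVO : genericPoint X ∈ V ⊓ O := ⟨hηV, hηO⟩
    have h1 := congrArg (fun w => X.presheaf.germ (V ⊓ O) (genericPoint X) hηVO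
      (toO ((vanSub X ζ).ι.app (V ⊓ O) w))) ha
    simp only [Scheme.Modules.Hom.app_smul, app_res, toO_smul, toO_res, map_mul,
      Ega1.SubSheaf.Sub.ι_app_sec, germ_resO] at h1
    rw [htg] at h1
    have h2 : f = algebraMap (X.presheaf.stalk z) X.functionField
        ((Units.map (X.presheaf.germ (V ⊓ O) z hzVO).hom.toMonoidHom a :
          (X.presheaf.stalk z)ˣ) : X.presheaf.stalk z) * g := by
      have h3 := germ_eq_algebraMap hηVO hzVO (a : Γ(X, V ⊓ O))
      refine h1.symm.trans ?_
      change _ * g = _ * g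
      congr 1
    have ha0 : algebraMap (X.presheaf.stalk z) X.functionField
        ((Units.map (X.presheaf.germ (V ⊓ O) z hzVO).hom.toMonoidHom a :
          (X.presheaf.stalk z)ˣ) : X.presheaf.stalk z) ≠ 0 := by
      intro h0
      have h4 := algebraMap_injective' z (h0.trans (map_zero _).symm)
      exact (Units.ne_zero _) h4
    refine ⟨?_, fun h => ?_, fun h => ?_⟩
    · rw [h2]
      exact mul_ne_zero ha0 hg.1
    · rw [h2, Scheme.ord_mul ha0 hg.1, ord_algebraMap_unit, zero_add]
      exact (hg.2 z hzV hz).1 h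
    · rw [h2, Scheme.ord_mul ha0 hg.1, ord_algebraMap_unit, zero_add]
      exact (hg.2 z hzV hz).2 h
  exact ⟨f, (key ζ hζ).1, (key ζ hζ).2.1 rfl, fun x hx hx1 => (key x hx1).2.2 hx⟩

/-- Triviality of the Picard group and factorial local rings give principality in codimension one. -/
theorem isPrincipalCodimOne_of_ufd (hU : ∀ x : X, UniqueFactorizationMonoid (X.presheaf.stalk x))
    (hPic : ∀ L : X.Modules, PicF.IsInvertible L → Nonempty (L ≅ Coh.structureModule X)) :
    IsPrincipalCodimOne X := by
  intro ζ hζ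
  have hX : ∀ x : X, IsIntegrallyClosed (X.presheaf.stalk x) := fun x => inferInstance
  have hinv : PicF.IsInvertible (vanSub X ζ).toModules := by
    rw [isInvertible_iff]
    intro x
    obtain ⟨W, hxW, -, s, hs⟩ := locGen_vanSub hX hζ x (mem_locPrincipal_of_ufd hX hζ x (hU x))
    exact ⟨W, hxW, s, hs⟩
  obtain ⟨s, hs⟩ := nonempty_iso_iff.mp (hPic _ hinv)
  exact exists_of_isGen hX hζ (O := ⊤) (fun z _ => trivial) s hs

/-- Triviality of the Picard groups of all open subschemes of a normal scheme gives principality in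
codimension one. -/
theorem isPrincipalCodimOne_of_opens (hX : ∀ x : X, IsIntegrallyClosed (X.presheaf.stalk x))
    (hPic : ∀ (U : X.Opens) (L : (U : Scheme.{u}).Modules), PicF.IsInvertible L →
      Nonempty (L ≅ Coh.structureModule (U : Scheme.{u}))) :
    IsPrincipalCodimOne X := by
  intro ζ hζ
  let U : X.Opens := locPrincipal ζ
  have hinv : PicF.IsInvertible ((vanSub X ζ).toModules.restrict U.ι) := by
    rw [isInvertible_iff]
    rintro ⟨x, hx⟩
    obtain ⟨W, hxW, -, s, hs⟩ := locGen_vanSub hX hζ x hx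
    have hle : U.ι ''ᵁ (U.ι ⁻¹ᵁ W) ≤ W := by
      rintro _ ⟨y, hy, rfl⟩
      exact hy
    refine ⟨U.ι ⁻¹ᵁ W, hxW, (show Γ((vanSub X ζ).toModules.restrict U.ι, U.ι ⁻¹ᵁ W) from
      res (vanSub X ζ).toModules hle s), ?_⟩
    rw [isGen_restrict_iff]
    exact hs.mono hle
  obtain ⟨s, hs⟩ := nonempty_iso_iff.mp (hPic U _ hinv)
  rw [isGen_restrict_iff] at hs
  refine exists_of_isGen hX hζ (O := U.ι ''ᵁ ⊤) (fun z hz => ?_) _ hs
  exact ⟨⟨z, mem_locPrincipal_of_coheight hX hζ z hz⟩, trivial, rfl⟩

end Groth.Agent.Ega4late.H535.IdealSheaf
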