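import Groth.Agent.S0233
import Groth.Agent.Ega4dB.CDivUFD

/-!
# Triviality of Picard groups when codimension one points are principal

Let `X` be a Noetherian integral normal scheme such that every point of codimension one is the divisor of a
rational function. Then every invertible module on every open subscheme is trivial.
-/

set_option autoImplicit false
universe u
open CategoryTheory CategoryTheory.Limits AlgebraicGeometry TopologicalSpace

namespace Groth.Agent.Ega4late.H535.PicPrincipal

open Groth.Agent.CurvesA.UfdFrac Groth.Agent.CurvesA.UfdStalk Groth.Agent.Ega4dA.GenSec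
open Groth.Agent.CurvesA.UfdExtend Groth.Agent.Ega4dB.CDivNormal Groth.Agent.Ega4dB.CDivAffine
open Groth.Agent.Ega4dB.CDivUFD

/-- Every point of codimension one is the divisor of a rational function. -/
def IsPrincipalCodimOne (X : Scheme.{u}) [IsIntegral X] [IsLocallyNoetherian X] : Prop :=
  ∀ x₀ : ↥X, Order.coheight x₀ = 1 → ∃ f : ↑X.functionField, f ≠ 0 ∧
    Scheme.ord f x₀ = 1 ∧ ∀ x : ↥X, x ≠ x₀ → Order.coheight x = 1 → Scheme.ord f x = 0

variable {X : Scheme.{u}} [IsIntegral X]

theorem genPt_top (X : Scheme.{u}) [IsIntegral X] : GenPt (⊤ : X.Opens) (genericPoint X) where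
  mem := trivial
  spec := fun y _ => genericPoint_specializes y
  inj := fun W _ hη => germ_injective_of_isIntegral X (U := W) _ hη
  field := (inferInstance : Field X.functionField).toIsField

theorem codimOneOver_of_coheight {y : X} (hy : Order.coheight y = 1) :
    CodimOneOver (genericPoint X) y := by
  have hle : ∀ a b : X, a ⤳ b → a ≠ b → Order.coheight a + 1 ≤ Order.coheight b := by
    intro a b hab hne
    have hlt : b < a := by
      refine lt_of_le_not_ge (show b ≤ a from hab) (fun h' => ?_)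
      have h'' : b ⤳ a := h'
      exact hne (hab.antisymm h'').eq
    exact Order.coheight_add_one_le hlt
  refine ⟨genericPoint_specializes y, ?_, ?_⟩
  · rintro rfl
    have : Order.coheight (genericPoint X) = 0 := by
      rw [Order.coheight_eq_zero]
      intro b hb
      exact (show genericPoint X ⤳ b from genericPoint_specializes b)
    rw [this] at hy
    exact absurd hy (by decide)
  · intro z hz
    by_contra! hcon
    have h1 := hle z y hz hcon.1
    have h2 := hle (genericPoint X) z (genericPoint_specializes z) (Ne.symm hcon.2)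
    rw [hy] at h1
    have h3 : Order.coheight z = 0 := by
      have h4 : Order.coheight z + 1 ≤ 0 + 1 := by simpa using h1
      exact nonpos_iff_eq_zero.mp ((ENat.add_le_add_iff_right (by decide)).mp h4)
    rw [h3] at h2
    have h5 : (1 : ℕ∞) ≤ Order.coheight (genericPoint X) + 1 := le_add_self
    exact absurd (h5.trans h2) (by decide)

/-- Finiteness of the set of codimension one points outside of a nonempty open. -/
theorem finite_coheight_one [IsLocallyNoetherian X] [CompactSpace X] (U : X.Opens)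
    (hη : genericPoint X ∈ U) : Set.Finite {y : X | Order.coheight y = 1 ∧ y ∉ U} := by
  have key : ∀ x : X, ∃ V : X.Opens, IsAffineOpen V ∧ x ∈ V := by
    intro x
    obtain ⟨_, ⟨V, hV, rfl⟩, hxV, -⟩ :=
      X.isBasis_affineOpens.exists_subset_of_mem_open (Set.mem_univ x) isOpen_univ
    exact ⟨V, hV, hxV⟩
  choose V hV hxV using key
  obtain ⟨t, -, ht⟩ := isCompact_univ.elim_nhds_subcover (fun x : X => (V x : Set X))
    (fun x _ => (V x).2.mem_nhds (hxV x))
  refine (t.finite_toSet.biUnion (fun x _ => finite_codimOne (hV x) U hη)).subset ?_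
  rintro y ⟨hy1, hyU⟩
  obtain ⟨x, hx⟩ := Set.mem_iUnion.mp (ht (Set.mem_univ y))
  obtain ⟨hxt, hy⟩ := Set.mem_iUnion.mp hx
  exact Set.mem_biUnion (by exact_mod_cast hxt) ⟨hy, hyU, codimOneOver_of_coheight hy1⟩

section ord

variable [IsLocallyNoetherian X]

theorem ord_pow (x : X) (f : X.functionField) (hf : f ≠ 0) (n : ℕ) :
    Scheme.ord (f ^ n) x = n * Scheme.ord f x := by
  induction n with
  | zero => rw [pow_zero, ord_one]; simp
  | succ n ih =>
    rw [pow_succ, Scheme.ord_mul (pow_ne_zero n hf) hf, ih]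
    push_cast
    ring

theorem ord_zpow (x : X) (f : X.functionField) (hf : f ≠ 0) (n : ℤ) :
    Scheme.ord (f ^ n) x = n * Scheme.ord f x := by
  obtain ⟨m, rfl | rfl⟩ := n.eq_nat_or_neg
  · rw [zpow_natCast, ord_pow x f hf]
  · rw [zpow_neg, zpow_natCast, ord_inv _ _ (pow_ne_zero m hf), ord_pow x f hf]
    ring

/-- Prescribed orders at finitely many points of codimension one. -/
theorem exists_prescribed (hP : IsPrincipalCodimOne X) (n : X → ℤ) (S : Finset X)
    (hS : ∀ z ∈ S, Order.coheight z = 1) :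
    ∃ h : X.functionField, h ≠ 0 ∧ ∀ z : X, Order.coheight z = 1 →
      (z ∈ S → Scheme.ord h z = n z) ∧ (z ∉ S → Scheme.ord h z = 0) := by
  classical
  induction S using Finset.induction_on with
  | empty =>
    exact ⟨1, one_ne_zero, fun z _ => ⟨fun h => absurd h (Finset.notMem_empty z), fun _ => ord_one z⟩⟩
  | insert ζ S hζ ih =>
    obtain ⟨h, h0, hh⟩ := ih (fun z hz => hS z (Finset.mem_insert_of_mem hz))
    obtain ⟨f, hf0, hf1, hf⟩ := hP ζ (hS ζ (Finset.mem_insert_self ζ S))
    refine ⟨h * f ^ n ζ, mul_ne_zero h0 (zpow_ne_zero _ hf0), fun z hz => ?_⟩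
    rw [Scheme.ord_mul h0 (zpow_ne_zero _ hf0), ord_zpow z f hf0]
    by_cases hzζ : z = ζ
    · subst hzζ
      refine ⟨fun _ => ?_, fun hn => absurd (Finset.mem_insert_self z S) hn⟩
      rw [(hh z hz).2 hζ, hf1]
      ring
    · rw [hf z hzζ hz, mul_zero, add_zero]
      refine ⟨fun hm => (hh z hz).1 (Finset.mem_of_mem_insert_of_ne hm hzζ), fun hn => (hh z hz).2 ?_⟩
      exact fun hm => hn (Finset.mem_insert_of_mem hm)

/-- On a normal scheme, a rational function with nonnegative orders at the codimension one generizations of `y`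
is regular at `y`. -/
theorem regPt_of_ord_nonneg (hX : ∀ x : X, IsIntegrallyClosed (X.presheaf.stalk x)) (y : X)
    (f : X.functionField) (hf : f ≠ 0)
    (h : ∀ z : X, z ⤳ y → Order.coheight z = 1 → 0 ≤ Scheme.ord f z) :
    RegPt (genericPoint_specializes y) f := by
  by_contra hn
  obtain ⟨z, hz, -, hz1, hneg⟩ := exists_ord_neg hX y f hf hn
  exact absurd (h z hz hz1) (not_le.mpr hneg)

end ord

/-- `L` generated by `e` and `e'` on a common open: their germs at the generic point differ by a unit at each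
point. -/
theorem exists_unit_of_isGen {A : X.Modules} {W W' : X.Opens} {e : Γ(A, W)} {e' : Γ(A, W')}
    (he : IsGen A W e) (he' : IsGen A W' e') {E : A.presheaf.stalk (genericPoint X)}
    (hEg : CycB.ModStalk.IsGen A (genericPoint X) E) (hη : genericPoint X ∈ W) (hη' : genericPoint X ∈ W')
    {γ γ' : X.functionField}
    (hγ : A.presheaf.germ W (genericPoint X) hη e = γ • E)
    (hγ' : A.presheaf.germ W' (genericPoint X) hη' e' = γ' • E) {z : X} (hz : z ∈ W) (hz' : z ∈ W') :
    ∃ a : (X.presheaf.stalk z)ˣ,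
      γ' = algebraMap (X.presheaf.stalk z) X.functionField (a : X.presheaf.stalk z) * γ := by
  obtain ⟨a, ha⟩ := (he.mono (inf_le_left : W ⊓ W' ≤ W)).exists_unit
    (he'.mono (inf_le_right : W ⊓ W' ≤ W'))
  have hO : z ∈ W ⊓ W' := ⟨hz, hz'⟩
  have hηO : genericPoint X ∈ W ⊓ W' := ⟨hη, hη'⟩
  have h4 := congrArg (A.presheaf.germ (W ⊓ W') (genericPoint X) hηO) ha
  rw [CycB.ModStalk.germ_smul, germ_res', germ_res', hγ, hγ', ← mul_smul] at h4
  have h5 := hEg.1 h4
  refine ⟨Units.map (X.presheaf.germ (W ⊓ W') z hO).hom.toMonoidHom a, ?_⟩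
  rw [← h5]
  congr 1
  exact (sp_germ (genericPoint_specializes z) hO a.1).symm

variable [IsLocallyNoetherian X]

/-- A unit of the local ring has order zero. -/
theorem ord_algebraMap_unit (z : X) (a : (X.presheaf.stalk z)ˣ) :
    Scheme.ord (algebraMap (X.presheaf.stalk z) X.functionField (a : X.presheaf.stalk z)) z = 0 := by
  have h1 : algebraMap (X.presheaf.stalk z) X.functionField (a : X.presheaf.stalk z) *
      algebraMap (X.presheaf.stalk z) X.functionField ((a⁻¹ : (X.presheaf.stalk z)ˣ) : X.presheaf.stalk z) = 1 := by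
    rw [← map_mul, Units.mul_inv, map_one]
  have h0 : algebraMap (X.presheaf.stalk z) X.functionField (a : X.presheaf.stalk z) ≠ 0 :=
    left_ne_zero_of_mul_eq_one h1
  exact ord_eq_zero_of_unit z _ h0 ⟨_, rfl⟩ ⟨_, eq_inv_of_mul_eq_one_right h1⟩

/-- Over a Noetherian normal integral scheme all of whose codimension one points are principal, every
locally free module of rank one over a nonempty open has a global generator. -/
theorem exists_generator [CompactSpace X] (hX : ∀ x : X, IsIntegrallyClosed (X.presheaf.stalk x))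
    (hP : IsPrincipalCodimOne X) {A : X.Modules} {U : X.Opens} (hA : LocGen A U) (hE : IsExt A U)
    (hne : (U : Set X).Nonempty) : ∃ s : Γ(A, U), IsGen A U s := by
  classical
  have hG := genPt_top X
  have key : ∀ y : {y : X // y ∈ U}, ∃ W : X.Opens, y.1 ∈ W ∧ W ≤ U ∧ ∃ e : Γ(A, W), IsGen A W e :=
    fun y => hA y.1 y.2
  choose W hyW hWU e he using key
  have hηW : ∀ i, genericPoint X ∈ W i := fun i => hG.mem_of_mem le_top (hyW i)
  obtain ⟨y₀, hy₀⟩ := hne
  let i₀ : {y : X // y ∈ U} := ⟨y₀, hy₀⟩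
  let E := A.presheaf.germ (W i₀) (genericPoint X) (hηW i₀) (e i₀)
  have hEg : CycB.ModStalk.IsGen A (genericPoint X) E := isGen_germ (he i₀) _
  have hg : ∀ i, ∃ g : (X.presheaf.stalk (genericPoint X))ˣ,
      A.presheaf.germ _ (genericPoint X) (hηW i) (e i) = g • E := fun i =>
    hEg.exists_unit_smul (isGen_germ (he i) (hηW i))
  choose g hg using hg
  let γ : {y : X // y ∈ U} → X.functionField := fun i => ((g i : (X.presheaf.stalk (genericPoint X))ˣ) :
    X.presheaf.stalk (genericPoint X))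
  have hγ0 : ∀ i, γ i ≠ 0 := fun i => (g i).ne_zero
  have hγ : ∀ i, A.presheaf.germ _ (genericPoint X) (hηW i) (e i) = γ i • E := hg
  have hγ₀ : γ i₀ = 1 := by
    have h1 : (1 : X.functionField) • E = γ i₀ • E := by rw [← hγ i₀, one_smul]
    exact (hEg.1 h1).symm
  have hcmp : ∀ i j (z : X), z ∈ W i → z ∈ W j → Scheme.ord (γ i) z = Scheme.ord (γ j) z := by
    intro i j z hzi hzj
    obtain ⟨a, ha⟩ := exists_unit_of_isGen (he i) (he j) hEg (hηW i) (hηW j) (hγ i) (hγ j) hzi hzj
    have h0 : algebraMap (X.presheaf.stalk z) X.functionField (a : X.presheaf.stalk z) ≠ 0 := by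
      intro h
      rw [h, zero_mul] at ha
      exact hγ0 j ha
    rw [ha, Scheme.ord_mul h0 (hγ0 i), ord_algebraMap_unit, zero_add]
  have hfin := finite_coheight_one (W i₀) (hηW i₀)
  let n : X → ℤ := fun z => if hz : z ∈ U then Scheme.ord (γ ⟨z, hz⟩) z else 0
  obtain ⟨h, h0, hh⟩ := exists_prescribed hP n hfin.toFinset (fun z hz => (hfin.mem_toFinset.mp hz).1)
  have hord : ∀ i (z : X), z ∈ W i → Order.coheight z = 1 → Scheme.ord h z = Scheme.ord (γ i) z := by
    intro i z hzi hz1
    by_cases hz₀ : z ∈ W i₀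
    · rw [(hh z hz1).2 (fun hm => (hfin.mem_toFinset.mp hm).2 hz₀), hcmp i i₀ z hzi hz₀, hγ₀, ord_one]
    · rw [(hh z hz1).1 (hfin.mem_toFinset.mpr ⟨hz1, hz₀⟩)]
      have hzU : z ∈ U := hWU i hzi
      change (if hz : z ∈ U then Scheme.ord (γ ⟨z, hz⟩) z else 0) = _
      rw [dif_pos hzU]
      exact hcmp ⟨z, hzU⟩ i z (hyW ⟨z, hzU⟩) hzi
  have hu : ∀ i, ∃ r : (Γ(X, W i))ˣ, X.presheaf.germ _ (genericPoint X) (hηW i) r.1 = h * (γ i)⁻¹ := by
    intro i
    have hne1 : h * (γ i)⁻¹ ≠ 0 := mul_ne_zero h0 (inv_ne_zero (hγ0 i))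
    have hne2 : γ i * h⁻¹ ≠ 0 := mul_ne_zero (hγ0 i) (inv_ne_zero h0)
    obtain ⟨r, hr⟩ := exists_section_of_regPt hG (W := W i) le_top (hηW i) (h * (γ i)⁻¹) (fun y hy =>
      regPt_of_ord_nonneg hX y _ hne1 (fun z hz hz1 => by
        rw [Scheme.ord_mul h0 (inv_ne_zero (hγ0 i)), ord_inv _ _ (hγ0 i),
          hord i z (hz.mem_open (W i).2 hy) hz1]
        omega))
    obtain ⟨r', hr'⟩ := exists_section_of_regPt hG (W := W i) le_top (hηW i) (γ i * h⁻¹) (fun y hy =>
      regPt_of_ord_nonneg hX y _ hne2 (fun z hz hz1 => by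
        rw [Scheme.ord_mul (hγ0 i) (inv_ne_zero h0), ord_inv _ _ h0,
          hord i z (hz.mem_open (W i).2 hy) hz1]
        omega))
    have hrr : r * r' = 1 := by
      apply hG.inj _ le_top (hηW i)
      rw [map_mul, hr, hr', map_one]
      have h1 := hγ0 i
      change h * (γ i)⁻¹ * (γ i * h⁻¹) = 1
      field_simp
    exact ⟨⟨r, r', hrr, by rw [mul_comm, hrr]⟩, hr⟩
  choose r hr using hu
  have hgerm : ∀ i, A.presheaf.germ (W i) (genericPoint X) (hηW i) ((r i).1 • e i) = h • E := by
    intro i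
    rw [CycB.ModStalk.germ_smul, hγ, hr, ← mul_smul, mul_assoc]
    have h1 : (γ i)⁻¹ * γ i = 1 := inv_mul_cancel₀ (hγ0 i)
    rw [h1, mul_one]
  obtain ⟨t, ht⟩ := exists_glue A (U := U) (fun i => W i) hWU (by
      intro y hy
      exact Opens.mem_iSup.mpr ⟨⟨y, hy⟩, hyW ⟨y, hy⟩⟩) (fun i => (r i).1 • e i) (by
      intro i j
      have hm : genericPoint X ∈ W i ⊓ W j := ⟨hηW i, hηW j⟩
      refine germ_injective_module hG hA hE le_top hm ?_
      rw [germ_res', germ_res', hgerm, hgerm])
  refine ⟨t, isGen_of_cover fun y hy => ⟨W ⟨y, hy⟩, hWU _, hyW ⟨y, hy⟩, ?_⟩⟩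
  rw [ht ⟨y, hy⟩]
  exact (he _).smul (r _).isUnit

/-- Every invertible module on every open subscheme is trivial. -/
theorem picTrivial_opens [CompactSpace X] (hX : ∀ x : X, IsIntegrallyClosed (X.presheaf.stalk x))
    (hP : IsPrincipalCodimOne X) (U : X.Opens) (L : (U : Scheme.{u}).Modules) (hL : PicF.IsInvertible L) :
    Nonempty (L ≅ Coh.structureModule (U : Scheme.{u})) := by
  rw [nonempty_iso_iff]
  by_cases hne : (U : Set X).Nonempty
  · obtain ⟨s, hs⟩ := exists_generator hX hP
      (S0234.locGen_pushforward U L hL) (S0234.isExt_pushforward U L) hne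
    have h1 := S0233.isGen_of_pushforward U L s hs
    have h2 : (⊤ : (U : Scheme.{u}).Opens) ≤ U.ι ⁻¹ᵁ U := fun x _ => x.2
    exact ⟨_, h1.mono h2⟩
  · have hall : ∀ (W : (U : Scheme.{u}).Opens) (y : (U : Scheme.{u})), y ∉ W := by
      intro W y
      exact absurd ⟨y.1, y.2⟩ hne
    refine ⟨0, fun W hW => ⟨fun a b _ => subsingletonO_of_notMem (hall W) a b, fun t =>
      ⟨0, subsingleton_of_notMem L (hall W) _ _⟩⟩⟩

/-- Every invertible module on the scheme is trivial. -/
theorem picTrivial [CompactSpace X] (hX : ∀ x : X, IsIntegrallyClosed (X.presheaf.stalk x))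
    (hP : IsPrincipalCodimOne X) (L : X.Modules) (hL : PicF.IsInvertible L) :
    Nonempty (L ≅ Coh.structureModule X) := by
  rw [nonempty_iso_iff]
  refine exists_generator hX hP (A := L) (U := ⊤) ?_ ?_ ⟨genericPoint X, trivial⟩
  · intro x _
    obtain ⟨W, hxW, s, hs⟩ := isInvertible_iff.mp hL x
    exact ⟨W, hxW, le_top, s, hs⟩
  · intro W
    have h1 : W ≤ W ⊓ ⊤ := le_inf le_rfl le_top
    have e1 : ∀ s : Γ(L, W), res L h1 (res L inf_le_left s) = s := fun s => by
      rw [res_res, res_self]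
    have e2 : ∀ s : Γ(L, W ⊓ ⊤), res L inf_le_left (res L h1 s) = s := fun s => by
      rw [res_res, res_self]
    exact ⟨fun s t hst => (e1 s).symm.trans ((congrArg (res L h1) hst).trans (e1 t)),
      fun t => ⟨res L h1 t, e2 t⟩⟩

end Groth.Agent.Ega4late.H535.PicPrincipal
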